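import Mathlib
import Cfsg.Agent.H418.KB.Core
import Cfsg.Agent.ClassicalGeometry.OrthSemi
import Cfsg.Agent.H166.K6.Fus
import Cfsg.Agent.H200.RowOrthA

/-!
# S4876, orthogonal groups in cross characteristic: elements of `E Q` (helper292)

`X = E Q / Z(E Q)`.

* `FixInv Q p` : automorphisms of `X` preserve the dimension of the fixed space of the `p`-elements of `E Q`;
  `fixInv_of_surj` : this holds if all automorphisms are induced by semisimilitudes;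
* `Fus Q p x` : an element of order `p` of `C(x)` is conjugate in `C(x)` to another power: weight two;
* `krow_of_three` : three elements of total weight five.
-/

set_option autoImplicit false
set_option linter.unusedSectionVars false

open QuadraticMap Module Cfsg Subgroup Cfsg.Agent.H61.K6 Cfsg.Agent.H418.KB
open Cfsg.Agent.LieClassical.OrthCore Cfsg.Agent.LieClassical.OrthTrans Cfsg.Agent.ClassicalGeometry.OrthSemi

namespace Cfsg.Agent.H292.K6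

universe u v

section lin

variable {F V : Type*} [Field F] [AddCommGroup V] [Module F V] {Q : QuadraticForm F V}

open scoped commutatorElement in
/-- squares of isometries are in `E Q` -/
theorem sq_mem_E [FiniteDimensional F V] (hG : Good Q) {g : V ≃ₗ[F] V} (hg : g ∈ O Q) : g * g ∈ E Q := by
  have hcomm : ∀ a b : V ≃ₗ[F] V, a ∈ O Q → b ∈ O Q → ⁅a, b⁆ ∈ E Q := fun a b ha hb =>
    hG.commutator_le_E (Subgroup.commutator_mem_commutator ha hb)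
  have key : ∀ g ∈ Subgroup.closure (reflSet Q ∪ siegelSet Q), g * g ∈ E Q := by
    intro g hg
    induction hg using Subgroup.closure_induction with
    | mem x hx =>
      rcases hx with ⟨v, hv, rfl⟩ | ⟨u, w, hu, hw, rfl⟩
      · rw [refl_mul_self]; exact (E Q).one_mem
      · exact (E Q).mul_mem (siegel_mem_E hu hw) (siegel_mem_E hu hw)
    | one => rw [mul_one]; exact (E Q).one_mem
    | mul x y hx hy hxx hyy =>
      rw [← O_eq_closure hG.nondeg] at hx hy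
      have h1 := hcomm x⁻¹ y ((O Q).inv_mem hx) hy
      have e : x * y * (x * y) = (x * x) * ⁅x⁻¹, y⁆ * (y * y) := by
        rw [commutatorElement_def]; group
      rw [e]
      exact (E Q).mul_mem ((E Q).mul_mem hxx h1) hyy
    | inv x hx hxx =>
      have e : x⁻¹ * x⁻¹ = (x * x)⁻¹ := by group
      rw [e]
      exact (E Q).inv_mem hxx
  rw [O_eq_closure hG.nondeg] at hg
  exact key g hg

/-- elements of odd order are in `E Q` -/
theorem mem_E_of_odd [FiniteDimensional F V] (hG : Good Q) {g : V ≃ₗ[F] V} (hg : g ∈ O Q) {n : ℕ} (hn : Odd n)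
    (h : g ^ n = 1) : g ∈ E Q := by
  obtain ⟨k, hk⟩ := hn
  have h1 : g = g ^ (k + 1) * g ^ (k + 1) := by
    rw [← pow_add, show k + 1 + (k + 1) = n + 1 by omega, pow_succ, h, one_mul]
  rw [h1]
  exact sq_mem_E hG ((O Q).pow_mem hg _)

/-- see the header -/
def FixInv (Q : QuadraticForm F V) (p : ℕ) : Prop :=
  ∀ (σ : (↥(E Q) ⧸ center ↥(E Q)) ≃* (↥(E Q) ⧸ center ↥(E Q))) (x y : ↥(E Q)), (∃ k, orderOf x = p ^ k) →
    (∃ k, orderOf y = p ^ k) → σ (x : ↥(E Q) ⧸ center ↥(E Q)) = (y : ↥(E Q) ⧸ center ↥(E Q)) →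
      finrank F (fixs (x : V ≃ₗ[F] V)) = finrank F (fixs (y : V ≃ₗ[F] V))

/-- see the header -/
def Fus (Q : QuadraticForm F V) (p : ℕ) (x : V ≃ₗ[F] V) : Prop :=
  ∃ y ∈ E Q, ∃ c ∈ E Q, y * x = x * y ∧ c * x = x * c ∧ y ≠ 1 ∧ y ^ p = 1 ∧
    ∃ j : ℕ, (j : ZMod p) ≠ 1 ∧ c * y * c⁻¹ = y ^ j

/-- a semilinear bijection between the fixed spaces -/
theorem finrank_fixs_conj (M : Gam Q) (x : V ≃ₗ[F] V) :
    finrank F (fixs (conjLin M x)) = finrank F (fixs x) := by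
  obtain ⟨σ, c, hM⟩ := M.2
  have hp1 : ∀ v : fixs x, M.1 (v : V) ∈ fixs (conjLin M x) := fun v => by
    rw [mem_fixs, conjLin_apply', mem_fixs.1 v.2]
  have hp2 : ∀ v : fixs (conjLin M x), M.1⁻¹ (v : V) ∈ fixs x := fun v => by
    have h1 := mem_fixs.1 v.2
    rw [conjLin_apply] at h1
    rw [mem_fixs]
    apply M.1.injective
    rw [h1, apply_inv]
  let i : F ≃+* F := σ
  let j : fixs x ≃+ fixs (conjLin M x) :=
    { toFun := fun v => ⟨M.1 v, hp1 v⟩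
      invFun := fun v => ⟨M.1⁻¹ v, hp2 v⟩
      left_inv := fun v => Subtype.ext (inv_apply M.1 v)
      right_inv := fun v => Subtype.ext (apply_inv M.1 v)
      map_add' := fun v w => Subtype.ext (hM.add v w) }
  have h1 : Module.rank F (fixs x) = Module.rank F (fixs (conjLin M x)) :=
    rank_eq_of_equiv_equiv i j i.bijective fun r m => Subtype.ext (hM.smul r m)
  exact (congrArg Cardinal.toNat h1).symm

theorem center_sq (hG : Good Q) {z : ↥(E Q)} (hz : z ∈ center ↥(E Q)) : z * z = 1 :=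
  Cfsg.Agent.H200.RowOrth.center_sq hG hz

/-- `p`-elements of `E Q` with the same image in `X` are equal up to `±1`, hence equal -/
theorem eq_of_mk_eq (hG : Good Q) {p : ℕ} (hp2 : Odd p) {x y : ↥(E Q)} (hx : ∃ k, orderOf x = p ^ k)
    (hy : ∃ k, orderOf y = p ^ k) (h : (x : ↥(E Q) ⧸ center ↥(E Q)) = (y : ↥(E Q) ⧸ center ↥(E Q))) : x = y := by
  have h1 : x⁻¹ * y ∈ center ↥(E Q) := QuotientGroup.eq.1 h
  obtain ⟨a, ha⟩ := hx
  obtain ⟨b, hb⟩ := hy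
  obtain ⟨z, hz⟩ : ∃ z, z = x⁻¹ * y := ⟨_, rfl⟩
  rw [← hz] at h1
  have hy' : y = x * z := by rw [hz, mul_inv_cancel_left]
  have hc : Commute x z := (mem_center_iff.1 h1 x)
  have h2 : z ^ (p ^ (a + b)) = 1 := by
    have h3 : y ^ (p ^ (a + b)) = 1 := by rw [pow_add, mul_comm, pow_mul, ← hb, pow_orderOf_eq_one, one_pow]
    have h4 : x ^ (p ^ (a + b)) = 1 := by rw [pow_add, pow_mul, ← ha, pow_orderOf_eq_one, one_pow]
    rwa [hy', hc.mul_pow, h4, one_mul] at h3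
  have h3 := Cfsg.Agent.H200.RowOrth.center_pow_odd hG h1 (hp2.pow) h2
  rw [hy', h3, mul_one]

theorem order_mk (hG : Good Q) {p : ℕ} (hp2 : Odd p) {x : ↥(E Q)} {k : ℕ} (hx : orderOf x = p ^ k) :
    orderOf (x : ↥(E Q) ⧸ center ↥(E Q)) = p ^ k := by
  apply Nat.dvd_antisymm
  · rw [← hx]
    exact orderOf_map_dvd (QuotientGroup.mk' (center ↥(E Q))) x
  · rw [← hx]
    apply orderOf_dvd_of_pow_eq_one
    have h1 : x ^ orderOf (x : ↥(E Q) ⧸ center ↥(E Q)) ∈ center ↥(E Q) := by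
      rw [← QuotientGroup.eq_one_iff, QuotientGroup.mk_pow]
      exact pow_orderOf_eq_one _
    refine Cfsg.Agent.H200.RowOrth.center_pow_odd hG h1 (l := p ^ k) hp2.pow ?_
    rw [← pow_mul, mul_comm, pow_mul, ← hx, pow_orderOf_eq_one, one_pow]

theorem fixInv_of_surj (hG : Good Q) {p : ℕ} (hp2 : Odd p) (h : Function.Surjective (Psi Q)) : FixInv Q p := by
  intro σ x y hx hy hσ
  obtain ⟨M, hM⟩ := h σ
  have h1 : σ (x : ↥(E Q) ⧸ center ↥(E Q)) = (conjE Q M x : ↥(E Q)) := by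
    rw [← Psi_mk, hM]
  rw [h1] at hσ
  have h2 : ∃ k, orderOf (conjE Q M x) = p ^ k := by
    obtain ⟨k, hk⟩ := hx
    exact ⟨k, by rw [← hk]; exact MulEquiv.orderOf_eq _ _⟩
  have h3 := eq_of_mk_eq hG hp2 h2 hy hσ
  rw [← h3, coe_conjE, finrank_fixs_conj]

/-- `Fus` gives weight two -/
theorem Fus.wt [Finite (↥(E Q) ⧸ center ↥(E Q))] (hG : Good Q) {p : ℕ} [hp : Fact p.Prime] (hp2 : Odd p)
    {x : V ≃ₗ[F] V} (hx : x ∈ E Q) (h : Fus Q p x) :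
    wt p ((⟨x, hx⟩ : ↥(E Q)) : ↥(E Q) ⧸ center ↥(E Q)) = 2 := by
  obtain ⟨y, hy, c, hc, hyx, hcx, hy1, hyp, j, hj, hcy⟩ := h
  have ho : orderOf (⟨y, hy⟩ : ↥(E Q)) = p ^ 1 := by
    rw [pow_one]
    exact orderOf_eq_prime (Subtype.ext hyp) fun h => hy1 (congrArg Subtype.val h)
  have ho' := order_mk hG hp2 ho
  refine Cfsg.Agent.H166.K6.wt_two_of_fus (y := ((⟨y, hy⟩ : ↥(E Q)) : ↥(E Q) ⧸ center ↥(E Q)))
    (c := ((⟨c, hc⟩ : ↥(E Q)) : ↥(E Q) ⧸ center ↥(E Q))) ?_ ?_ ?_ ho' hj ?_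
  · exact congrArg (QuotientGroup.mk' (center ↥(E Q))) (Subtype.ext hyx : (⟨y, hy⟩ : ↥(E Q)) * ⟨x, hx⟩ = ⟨x, hx⟩ * ⟨y, hy⟩)
  · exact congrArg (QuotientGroup.mk' (center ↥(E Q))) (Subtype.ext hcx : (⟨c, hc⟩ : ↥(E Q)) * ⟨x, hx⟩ = ⟨x, hx⟩ * ⟨c, hc⟩)
  · intro h1
    rw [h1, orderOf_one, pow_one] at ho'
    exact hp.out.one_lt.ne ho'
  · exact congrArg (QuotientGroup.mk' (center ↥(E Q)))
      (Subtype.ext hcy : (⟨c, hc⟩ : ↥(E Q)) * ⟨y, hy⟩ * (⟨c, hc⟩)⁻¹ = ⟨y, hy⟩ ^ j)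

/-- a group with `Fus` has no normal `p`-complement -/
theorem Fus.not_compl [Finite (↥(E Q) ⧸ center ↥(E Q))] (hG : Good Q) {p : ℕ} [hp : Fact p.Prime] (hp2 : Odd p)
    {x : V ≃ₗ[F] V} (h : Fus Q p x) : ¬ HasNormalPComplement p (↥(E Q) ⧸ center ↥(E Q)) := by
  obtain ⟨y, hy, c, hc, hyx, hcx, hy1, hyp, j, hj, hcy⟩ := h
  have ho : orderOf (⟨y, hy⟩ : ↥(E Q)) = p ^ 1 := by
    rw [pow_one]
    exact orderOf_eq_prime (Subtype.ext hyp) fun h => hy1 (congrArg Subtype.val h)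
  have ho' := order_mk hG hp2 ho
  refine Cfsg.Agent.H166.K6.not_compl_of_fus (y := ((⟨y, hy⟩ : ↥(E Q)) : ↥(E Q) ⧸ center ↥(E Q)))
    (c := ((⟨c, hc⟩ : ↥(E Q)) : ↥(E Q) ⧸ center ↥(E Q))) ?_ ho' hj ?_
  · intro h1
    rw [h1, orderOf_one, pow_one] at ho'
    exact hp.out.one_lt.ne ho'
  · exact congrArg (QuotientGroup.mk' (center ↥(E Q)))
      (Subtype.ext hcy : (⟨c, hc⟩ : ↥(E Q)) * ⟨y, hy⟩ * (⟨c, hc⟩)⁻¹ = ⟨y, hy⟩ ^ j)

/-- **Three elements of total weight five.** -/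
theorem krow_of_three [Finite (↥(E Q) ⧸ center ↥(E Q))] (hG : Good Q) {p : ℕ} [hp : Fact p.Prime] (hp2 : p ≠ 2)
    (hinv : FixInv Q p) {a b c : V ≃ₗ[F] V} (ha : a ∈ E Q) (hb : b ∈ E Q) (hc : c ∈ E Q)
    (hao : ∃ k, orderOf a = p ^ k) (hbo : ∃ k, orderOf b = p ^ k) (hco : ∃ k, orderOf c = p ^ k)
    (ha1 : a ≠ 1) (hb1 : b ≠ 1) (hc1 : c ≠ 1) (hFa : Fus Q p a) (hFb : Fus Q p b)
    (hab : orderOf a = orderOf b → finrank F (fixs a) ≠ finrank F (fixs b))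
    (hac : orderOf a = orderOf c → finrank F (fixs a) ≠ finrank F (fixs c))
    (hbc : orderOf b = orderOf c → finrank F (fixs b) ≠ finrank F (fixs c)) :
    KRow.{u, _} p (↥(E Q) ⧸ center ↥(E Q)) := by
  classical
  have hodd : Odd p := hp.out.odd_of_ne_two hp2
  have hord : ∀ {z : V ≃ₗ[F] V} (hz : z ∈ E Q), orderOf (⟨z, hz⟩ : ↥(E Q)) = orderOf z := fun hz => by
    rw [← Subgroup.orderOf_coe]
  have hmk : ∀ {z : V ≃ₗ[F] V} (hz : z ∈ E Q), (∃ k, orderOf z = p ^ k) →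
      orderOf ((⟨z, hz⟩ : ↥(E Q)) : ↥(E Q) ⧸ center ↥(E Q)) = orderOf z := by
    intro z hz ⟨k, hk⟩
    rw [hk]
    exact order_mk hG hodd (by rw [hord, hk])
  -- separation
  have hsep : ∀ {z w : V ≃ₗ[F] V} (hz : z ∈ E Q) (hw : w ∈ E Q), (∃ k, orderOf z = p ^ k) → (∃ k, orderOf w = p ^ k) →
      (orderOf z = orderOf w → finrank F (fixs z) ≠ finrank F (fixs w)) →
      ∀ σ : (↥(E Q) ⧸ center ↥(E Q)) ≃* (↥(E Q) ⧸ center ↥(E Q)),
        σ ((⟨z, hz⟩ : ↥(E Q)) : ↥(E Q) ⧸ center ↥(E Q)) ≠ ((⟨w, hw⟩ : ↥(E Q)) : ↥(E Q) ⧸ center ↥(E Q)) := by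
    intro z w hz hw hzo hwo hzw σ hσ
    have h1 : orderOf z = orderOf w := by
      rw [← hmk hz hzo, ← hmk hw hwo, ← hσ, MulEquiv.orderOf_eq]
    refine hzw h1 (hinv σ ⟨z, hz⟩ ⟨w, hw⟩ ?_ ?_ hσ)
    · rw [hord]; exact hzo
    · rw [hord]; exact hwo
  obtain ⟨A, hA⟩ : ∃ A, A = ((⟨a, ha⟩ : ↥(E Q)) : ↥(E Q) ⧸ center ↥(E Q)) := ⟨_, rfl⟩
  obtain ⟨B, hB⟩ : ∃ B, B = ((⟨b, hb⟩ : ↥(E Q)) : ↥(E Q) ⧸ center ↥(E Q)) := ⟨_, rfl⟩
  obtain ⟨C, hC⟩ : ∃ C, C = ((⟨c, hc⟩ : ↥(E Q)) : ↥(E Q) ⧸ center ↥(E Q)) := ⟨_, rfl⟩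
  have hEl : ∀ {z : V ≃ₗ[F] V} (hz : z ∈ E Q), (∃ k, orderOf z = p ^ k) → z ≠ 1 →
      El p ((⟨z, hz⟩ : ↥(E Q)) : ↥(E Q) ⧸ center ↥(E Q)) := by
    intro z hz hzo hz1
    obtain ⟨k, hk⟩ := hzo
    refine ⟨⟨k, by rw [hmk hz ⟨k, hk⟩, hk]⟩, fun h => hz1 ?_⟩
    rw [← orderOf_eq_one_iff, ← hmk hz ⟨k, hk⟩, h, orderOf_one]
  have hAB : ∀ σ : (↥(E Q) ⧸ center ↥(E Q)) ≃* (↥(E Q) ⧸ center ↥(E Q)), σ A ≠ B := by
    rw [hA, hB]; exact hsep ha hb hao hbo hab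
  have hAC : ∀ σ : (↥(E Q) ⧸ center ↥(E Q)) ≃* (↥(E Q) ⧸ center ↥(E Q)), σ A ≠ C := by
    rw [hA, hC]; exact hsep ha hc hao hco hac
  have hBC : ∀ σ : (↥(E Q) ⧸ center ↥(E Q)) ≃* (↥(E Q) ⧸ center ↥(E Q)), σ B ≠ C := by
    rw [hB, hC]; exact hsep hb hc hbo hco hbc
  have hwA : wt p A = 2 := by rw [hA]; exact hFa.wt hG hodd ha
  have hwB : wt p B = 2 := by rw [hB]; exact hFb.wt hG hodd hb
  have hAB' : A ≠ B := hAB (MulEquiv.refl _)
  have hAC' : A ≠ C := hAC (MulEquiv.refl _)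
  have hBC' : B ≠ C := hBC (MulEquiv.refl _)
  refine KRow.of_wt (hFa.not_compl hG hodd) {A, B, C} ?_ ?_ ?_
  · intro x hx
    simp only [Finset.mem_insert, Finset.mem_singleton] at hx
    rcases hx with rfl | rfl | rfl
    · rw [hA]; exact hEl ha hao ha1
    · rw [hB]; exact hEl hb hbo hb1
    · rw [hC]; exact hEl hc hco hc1
  · intro x hx y hy σ hσ
    simp only [Finset.mem_insert, Finset.mem_singleton] at hx hy
    have hsymm : ∀ {x y}, σ x = y → σ.symm y = x := fun h => by rw [← h, σ.symm_apply_apply]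
    rcases hx with rfl | rfl | rfl <;> rcases hy with rfl | rfl | rfl
    · rfl
    · exact absurd hσ (hAB σ)
    · exact absurd hσ (hAC σ)
    · exact absurd (hsymm hσ) (hAB σ.symm)
    · rfl
    · exact absurd hσ (hBC σ)
    · exact absurd (hsymm hσ) (hAC σ.symm)
    · exact absurd (hsymm hσ) (hBC σ.symm)
    · rfl
  · rw [Finset.sum_insert (by simp [hAB', hAC']), Finset.sum_insert (by simp [hBC']), Finset.sum_singleton, hwA, hwB]
    have := one_le_wt (p := p) C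
    omega

end lin

end Cfsg.Agent.H292.K6
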