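import Mathlib
import Cfsg.Agent.H292.K6.OrthCore
import Cfsg.Agent.H292.K6.Corr
import Cfsg.Agent.H418.KB.Orth
import Cfsg.Agent.H560.KB.Conj
import Cfsg.Agent.H404.K6.CritE

/-!
# S4876: orthogonal groups, `p = 5`, `7`, `p ∤ q² - 1` (helper292)

`krow_more` : `KRow p (E Q / Z)` if `O Q` has noncyclic Sylow `p`-subgroups (exception: `p = 5`, `8 ∣ n`, `|X|_5 = 25`).
-/

set_option autoImplicit false
set_option linter.unusedSectionVars false

open QuadraticMap Module Cfsg Subgroup Cfsg.Agent.H61.K6 Cfsg.Agent.H418.KB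
open Cfsg.Agent.LieClassical.OrthCore Cfsg.Agent.LieClassical.OrthTrans Cfsg.Agent.ClassicalGeometry.OrthSemi

namespace Cfsg.Agent.H292.K6

universe u v

variable {F V : Type*} [Field F] [Fintype F] [AddCommGroup V] [Module F V] [FiniteDimensional F V]
  {Q : QuadraticForm F V} {p : ℕ} [hp : Fact p.Prime]

omit [FiniteDimensional F V] in
theorem sq_ne (hd : ¬ p ∣ Fintype.card F ^ 2 - 1) : ((Fintype.card F * Fintype.card F : ℕ) : ZMod p) ≠ 1 := by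
  intro h
  apply hd
  have h1 : 1 ≤ Fintype.card F ^ 2 := Nat.one_le_pow _ _ Fintype.card_pos
  rw [← ZMod.natCast_eq_zero_iff, Nat.cast_sub h1, pow_two, h, Nat.cast_one, sub_self]

/-- the conjugating elements -/
theorem exists_c (hG : Good Q) (h2 : 2 < p) (hpF : ¬ p ∣ Fintype.card F) {u y : V ≃ₗ[F] V} (hy : y ∈ O Q)
    (hyp : y ^ p = 1) (huy : u * y = y * u) (htr : Tr y u) :
    ∃ c ∈ O Q, c * y * c⁻¹ = y ^ Fintype.card F ∧ c * u = u * c := by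
  obtain ⟨c, hc, hcy, hcf⟩ := H560.KBConj.conj_q (spl_O hG.nondeg) hp.out h2 hpF hy hyp
  exact ⟨c, hc, hcy, comm_fix (exists_dec hp.out hpF hyp) hcy hcf huy htr⟩

theorem conj_sq {c y : V ≃ₗ[F] V} {q : ℕ} (h : c * y * c⁻¹ = y ^ q) : (c * c) * y * (c * c)⁻¹ = y ^ (q * q) := by
  have e : (c * c) * y * (c * c)⁻¹ = c * (c * y * c⁻¹) * c⁻¹ := by group
  rw [e, h, ← conj_pow, h, ← pow_mul]

theorem odd_p (h2 : 2 < p) : Odd p := hp.out.odd_of_ne_two (by omega)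

/-- weight two from the conjugation statement -/
theorem fus_of_cq (hG : Good Q) (h2 : 2 < p) (hpF : ¬ p ∣ Fintype.card F) (hd : ¬ p ∣ Fintype.card F ^ 2 - 1)
    {u y : V ≃ₗ[F] V} (hy : y ∈ O Q) (hyp : y ^ p = 1) (hy1 : y ≠ 1) (huy : u * y = y * u) (htr : Tr y u) :
    Fus Q p u := by
  obtain ⟨c, hc, hcy, hcu⟩ := exists_c hG h2 hpF hy hyp huy htr
  refine ⟨y, mem_E_of_odd hG hy (odd_p h2) hyp, c * c, sq_mem_E hG hc, huy.symm, ?_, hy1, hyp,
    Fintype.card F * Fintype.card F, sq_ne hd, conj_sq hcy⟩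
  exact ((show Commute c u from hcu).mul_left (show Commute c u from hcu)).eq

omit [Fintype F] [FiniteDimensional F V] in
/-- the local data in `X` -/
theorem inert_mk (hG : Good Q) (h2 : 2 < p) (hcard : ¬ p ^ 3 ∣ Nat.card (↥(E Q) ⧸ center ↥(E Q))) {x y h : V ≃ₗ[F] V}
    (hx : x ∈ E Q) (hy : y ∈ E Q) (hh : h ∈ E Q) (hxp : x ^ p = 1) (hyp : y ^ p = 1) (hx1 : x ≠ 1) (hy1 : y ≠ 1)
    (hxy : x * y = y * x) (hnp : ∀ i : ℕ, y ≠ x ^ i) (hhx : h * x = x * h) {r n : ℕ} (hhy : h * y * h⁻¹ = y ^ r)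
    (hord : ∀ i, 0 < i → i < n → ¬ r ^ i ≡ 1 [MOD p]) :
    Cfsg.Agent.H404.K6.Inert p ((⟨x, hx⟩ : ↥(E Q)) : ↥(E Q) ⧸ center ↥(E Q))
      ((⟨y, hy⟩ : ↥(E Q)) : ↥(E Q) ⧸ center ↥(E Q)) ((⟨h, hh⟩ : ↥(E Q)) : ↥(E Q) ⧸ center ↥(E Q)) r n := by
  have hox : orderOf (⟨x, hx⟩ : ↥(E Q)) = p ^ 1 := by
    rw [pow_one]
    exact orderOf_eq_prime (Subtype.ext hxp) fun h => hx1 (congrArg Subtype.val h)
  have hoy : orderOf (⟨y, hy⟩ : ↥(E Q)) = p ^ 1 := by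
    rw [pow_one]
    exact orderOf_eq_prime (Subtype.ext hyp) fun h => hy1 (congrArg Subtype.val h)
  have hmx := order_mk hG (odd_p h2) hox
  have hmy := order_mk hG (odd_p h2) hoy
  refine ⟨hcard, by rw [hmx, pow_one], by rw [hmy, pow_one], ?_, ?_, ?_, ?_, hord⟩
  · exact congrArg (QuotientGroup.mk' (center ↥(E Q))) (Subtype.ext hxy : (⟨x, hx⟩ : ↥(E Q)) * ⟨y, hy⟩ = ⟨y, hy⟩ * ⟨x, hx⟩)
  · intro hmem
    have hfo : IsOfFinOrder ((⟨x, hx⟩ : ↥(E Q)) : ↥(E Q) ⧸ center ↥(E Q)) := by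
      rw [← orderOf_pos_iff, hmx, pow_one]
      exact hp.out.pos
    rw [← hfo.mem_powers_iff_mem_zpowers] at hmem
    obtain ⟨i, hi⟩ := hmem
    have hi' : (((⟨x, hx⟩ : ↥(E Q)) ^ i : ↥(E Q)) : ↥(E Q) ⧸ center ↥(E Q)) = ((⟨y, hy⟩ : ↥(E Q)) : ↥(E Q) ⧸ center ↥(E Q)) :=
      hi
    have hpow : ∃ k, orderOf ((⟨x, hx⟩ : ↥(E Q)) ^ i) = p ^ k := by
      have h3 : orderOf ((⟨x, hx⟩ : ↥(E Q)) ^ i) ∣ p ^ 1 := by
        rw [← hox]
        exact orderOf_pow_dvd i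
      obtain ⟨k, -, hk⟩ := (Nat.dvd_prime_pow hp.out).1 h3
      exact ⟨k, hk⟩
    have h4 := eq_of_mk_eq hG (odd_p h2) hpow ⟨1, hoy⟩ hi'
    exact hnp i (congrArg Subtype.val h4).symm
  · exact congrArg (QuotientGroup.mk' (center ↥(E Q))) (Subtype.ext hhx : (⟨h, hh⟩ : ↥(E Q)) * ⟨x, hx⟩ = ⟨x, hx⟩ * ⟨h, hh⟩)
  · exact congrArg (QuotientGroup.mk' (center ↥(E Q)))
      (Subtype.ext hhy : (⟨h, hh⟩ : ↥(E Q)) * ⟨y, hy⟩ * (⟨h, hh⟩)⁻¹ = ⟨y, hy⟩ ^ r)

/-- fixed spaces of different dimensions -/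
theorem krow_case_one [Finite (↥(E Q) ⧸ center ↥(E Q))] (hG : Good Q) (h2 : 2 < p) (hpF : ¬ p ∣ Fintype.card F)
    (hd : ¬ p ∣ Fintype.card F ^ 2 - 1) (hinv : FixInv Q p) {x y : V ≃ₗ[F] V} (hx : x ∈ O Q) (hy : y ∈ O Q)
    (hxp : x ^ p = 1) (hyp : y ^ p = 1) (hx1 : x ≠ 1) (hy1 : y ≠ 1) (hxy : x * y = y * x) (htr : Tr x y)
    (hne : finrank F (fixs x) ≠ finrank F (fixs y)) : KRow.{u, _} p (↥(E Q) ⧸ center ↥(E Q)) := by
  have hpF' := p_ne (F := F) hp.out hpF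
  have hxE := mem_E_of_odd hG hx (odd_p h2) hxp
  have hyE := mem_E_of_odd hG hy (odd_p h2) hyp
  have hlt := finrank_mul_lt htr hxy hpF' hxp hpF' hyp hy1
  have hlt' := finrank_mul_lt (htr.symm hxy) hxy.symm hpF' hyp hpF' hxp hx1
  rw [← hxy] at hlt'
  have hxyp : (x * y) ^ p = 1 := by rw [(show Commute x y from hxy).mul_pow, hxp, hyp, one_mul]
  have hxy1 : x * y ≠ 1 := by
    intro h
    rw [h] at hlt
    have h3 : fixs (1 : V ≃ₗ[F] V) = ⊤ := by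
      rw [eq_top_iff]
      exact fun v _ => mem_fixs.2 rfl
    rw [h3, finrank_top] at hlt
    exact absurd (Submodule.finrank_le (fixs x)) (not_le.2 hlt)
  refine krow_of_three hG (by omega) hinv hxE hyE ((E Q).mul_mem hxE hyE) ⟨1, by rw [pow_one]; exact orderOf_eq_prime hxp hx1⟩
    ⟨1, by rw [pow_one]; exact orderOf_eq_prime hyp hy1⟩ ⟨1, by rw [pow_one]; exact orderOf_eq_prime hxyp hxy1⟩ hx1 hy1 hxy1
    (fus_of_cq hG h2 hpF hd hy hyp hy1 hxy (htr.symm hxy)) (fus_of_cq hG h2 hpF hd hx hxp hx1 hxy.symm htr)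
    (fun _ => hne) (fun _ => hlt.ne') (fun _ => hlt'.ne')

/-- an element of order `p²` -/
theorem krow_case_two [Finite (↥(E Q) ⧸ center ↥(E Q))] (hG : Good Q) (h2 : 2 < p) (hpF : ¬ p ∣ Fintype.card F)
    (hd : ¬ p ∣ Fintype.card F ^ 2 - 1) (hinv : FixInv Q p) {w y : V ≃ₗ[F] V} (hw : w ∈ O Q) (hy : y ∈ O Q)
    (hwo : orderOf w = p ^ 2) (hyp : y ^ p = 1) (hy1 : y ≠ 1) (hwy : w * y = y * w) (htr : Tr y w) :
    KRow.{u, _} p (↥(E Q) ⧸ center ↥(E Q)) := by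
  have hpF' := p_ne (F := F) hp.out hpF
  have hw2 : w ^ p ^ 2 = 1 := by rw [← hwo, pow_orderOf_eq_one]
  have hwE := mem_E_of_odd hG hw (odd_p h2).pow hw2
  have hyE := mem_E_of_odd hG hy (odd_p h2) hyp
  have hxE : w ^ p ∈ E Q := (E Q).pow_mem hwE p
  have hxp : (w ^ p) ^ p = 1 := by rw [← pow_mul, ← pow_two, hw2]
  have hxo : orderOf (w ^ p) = p := by
    rw [orderOf_pow_of_dvd hp.out.ne_zero (by rw [hwo]; exact dvd_pow_self p (by norm_num)), hwo, pow_two,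
      Nat.mul_div_cancel _ hp.out.pos]
  have hx1 : w ^ p ≠ 1 := by
    intro h
    rw [h, orderOf_one] at hxo
    exact hp.out.one_lt.ne hxo
  have hxy : w ^ p * y = y * w ^ p := ((show Commute w y from hwy).pow_left p).eq
  have htr' : Tr (w ^ p) y := (htr.symm hwy.symm).pow_left p
  have hlt := finrank_mul_lt htr' hxy hpF' hxp hpF' hyp hy1
  have hxyp : (w ^ p * y) ^ p = 1 := by rw [(show Commute (w ^ p) y from hxy).mul_pow, hxp, hyp, one_mul]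
  have hxy1 : w ^ p * y ≠ 1 := by
    intro h
    rw [h] at hlt
    have h3 : fixs (1 : V ≃ₗ[F] V) = ⊤ := by
      rw [eq_top_iff]
      exact fun v _ => mem_fixs.2 rfl
    rw [h3, finrank_top] at hlt
    exact absurd (Submodule.finrank_le (fixs (w ^ p))) (not_le.2 hlt)
  have hw1 : w ≠ 1 := by
    rintro rfl
    exact hx1 (one_pow p)
  have hpp : p ≠ p ^ 2 := by
    intro h
    have := hp.out.one_lt
    nlinarith
  refine krow_of_three hG (by omega) hinv hxE hwE ((E Q).mul_mem hxE hyE) ⟨1, by rw [pow_one, hxo]⟩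
    ⟨2, hwo⟩ ⟨1, by rw [pow_one]; exact orderOf_eq_prime hxyp hxy1⟩ hx1 hw1 hxy1
    (fus_of_cq hG h2 hpF hd hy hyp hy1 hxy (htr.pow p)) (fus_of_cq hG h2 hpF hd hy hyp hy1 hwy htr)
    (fun h => absurd (hxo.symm.trans (h.trans hwo)) hpp) (fun _ => hlt.ne') (fun h => ?_)
  rw [hwo, orderOf_eq_prime hxyp hxy1] at h
  exact absurd h.symm hpp

/-- no leftover: the dimension is divisible by 8 -/
theorem eight_dvd (hq : ¬ 5 ∣ Fintype.card F ^ 2 - 1) (hq5 : ¬ 5 ∣ Fintype.card F) {x y : V ≃ₗ[F] V} (hxp : x ^ 5 = 1)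
    (htr : Tr x y) (hD : finrank F (fixs x) = finrank F (fixs y)) (hfix : fixs x ⊓ fixs y = ⊥) :
    8 ∣ finrank F V := by
  have hp5 : (Nat.Prime 5) := by norm_num
  have h5F := p_ne (F := F) hp5 hq5
  obtain ⟨C, hC⟩ : ∃ C, C = LinearMap.range (el x - 1) := ⟨_, rfl⟩
  have hmem : ∀ u ∈ C, ∃ z, u = x z - z := by
    rw [hC]
    rintro _ ⟨z, rfl⟩
    exact ⟨z, rfl⟩
  have hmem' : ∀ z, x z - z ∈ C := by
    rw [hC]
    exact fun z => ⟨z, rfl⟩
  have h1 : finrank F C + finrank F (fixs x) = finrank F V := by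
    rw [hC]
    exact LinearMap.finrank_range_add_finrank_ker (el x - 1)
  have h3 : finrank F C ≤ finrank F (fixs y) := by
    apply Submodule.finrank_mono
    intro u hu
    obtain ⟨z, rfl⟩ := hmem u hu
    exact mem_fixs.2 (htr z)
  have h4 : finrank F (fixs x) + finrank F (fixs y) ≤ finrank F V := by
    have := Submodule.finrank_sup_add_finrank_inf_eq (fixs x) (fixs y)
    rw [hfix, finrank_bot, add_zero] at this
    rw [← this]
    exact Submodule.finrank_le _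
  have h5 : 4 ∣ finrank F C := by
    refine four_dvd_finrank hq hq5 hxp ?_ ?_
    · intro u hu
      obtain ⟨z, rfl⟩ := hmem u hu
      rw [map_sub]
      exact hmem' (x z)
    · intro u hu hxu
      obtain ⟨z, rfl⟩ := hmem u hu
      rw [unip h5F hxp hxu, sub_self]
  omega

theorem seven_aux : ∀ a : ZMod 7, a ≠ 0 → a * a ≠ 1 → (a * a) ^ 1 ≠ 1 ∧ (a * a) ^ 2 ≠ 1 := by decide

/-- **the core theorem for `p ∤ q² - 1`** -/
theorem krow_more (hG : Good Q) (h57 : p = 5 ∨ p = 7) (hpF : ¬ p ∣ Fintype.card F)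
    (hd : ¬ p ∣ Fintype.card F ^ 2 - 1) (hinv : FixInv Q p) {R : Subgroup (V ≃ₗ[F] V)} (hRO : R ≤ O Q)
    (hR : IsPGroup p R) (hnc : ¬ IsCyclic R)
    (h8 : p = 5 → 8 ∣ finrank F V → 5 ^ 3 ∣ Nat.card (↥(E Q) ⧸ center ↥(E Q)) ∨
      ∀ z ∈ O Q, z ^ 5 = 1 → ∃ v, v ≠ 0 ∧ z v = v) :
    KRow.{u, _} p (↥(E Q) ⧸ center ↥(E Q)) := by
  have h2 : 2 < p := by rcases h57 with rfl | rfl <;> norm_num
  have hpF' := p_ne (F := F) hp.out hpF
  have hfinV : Finite V := Module.finite_of_finite F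
  have hfinL : Finite (V ≃ₗ[F] V) := Finite.of_injective (fun f => (f : V → V)) DFunLike.coe_injective
  obtain ⟨P', hP'⟩ := (hR.comap_subtype (K := O Q)).exists_le_sylow
  obtain ⟨P, hPd⟩ : ∃ P, P = (P' : Subgroup ↥(O Q)).map (O Q).subtype := ⟨_, rfl⟩
  have hPO : P ≤ O Q := by
    rw [hPd]
    rintro _ ⟨g, -, rfl⟩
    exact g.2
  have hPp : IsPGroup p P := by
    rw [hPd]
    exact P'.isPGroup'.map _
  have hRP : R ≤ P := by
    intro r hr
    rw [hPd]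
    exact ⟨⟨r, hRO hr⟩, hP' hr, rfl⟩
  have hncP : ¬ IsCyclic P := fun h => hnc (isCyclic_of_injective (Subgroup.inclusion hRP)
    (Subgroup.inclusion_injective hRP))
  rcases dich (spl_O hG.nondeg) h2 hpF hPO hPp hncP with
    ⟨x, hx, y, hy, hxp, hyp, hx1, hy1, hxy, htr, hne⟩ | ⟨w, hw, y, hy, hwo, hyp, hy1, hwy, htr⟩ |
    ⟨hcard, x, hx, y, hy, hxp, hyp, hx1, hy1, hxy, htr, hD⟩
  · exact krow_case_one hG h2 hpF hd hinv hx hy hxp hyp hx1 hy1 hxy htr hne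
  · exact krow_case_two hG h2 hpF hd hinv hw hy hwo hyp hy1 hwy htr
  -- `|X|_p = p²`
  have hX : ¬ p ^ 3 ∣ Nat.card (↥(E Q) ⧸ center ↥(E Q)) := by
    intro h
    have h1 : p ^ 3 ∣ Nat.card ↥(O Q) :=
      (h.trans (Subgroup.card_quotient_dvd_card _)).trans (Subgroup.card_dvd_of_le E_le_O)
    have h3 : p ^ 3 ∣ Nat.card P' := P'.pow_dvd_card_of_pow_dvd_card h1
    have h4 : Nat.card P = Nat.card P' := by
      rw [hPd]
      exact (Nat.card_congr ((P' : Subgroup ↥(O Q)).equivMapOfInjective _ (O Q).subtype_injective).toEquiv).symm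
    have h5 : p ^ 3 ≤ Nat.card P' := Nat.le_of_dvd Nat.card_pos h3
    rw [← h4] at h5
    have h6 : p ^ 2 < p ^ 3 := Nat.pow_lt_pow_right hp.out.one_lt (by norm_num)
    omega
  have hxE := mem_E_of_odd hG hx (odd_p h2) hxp
  have hyE := mem_E_of_odd hG hy (odd_p h2) hyp
  have htr' : Tr y x := htr.symm hxy
  have hnp : ∀ i : ℕ, y ≠ x ^ i := not_pow hpF' hyp hy1 htr'
  obtain ⟨c, hc, hcy, hcx⟩ := exists_c hG h2 hpF hy hyp hxy htr'
  rcases h57 with rfl | rfl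
  · -- `p = 5`
    obtain ⟨w₀, hw₀0, hw₀⟩ : ∃ w₀, w₀ ≠ 0 ∧ (x * y) w₀ = w₀ := by
      by_contra hno
      push Not at hno
      have hfix : fixs x ⊓ fixs y = ⊥ := by
        rw [← fixs_mul_eq htr hxy hpF' hxp, eq_bot_iff]
        intro v hv
        by_contra h0
        exact hno v h0 (mem_fixs.1 hv)
      rcases h8 rfl (eight_dvd hd hpF hxp htr hD hfix) with h | h
      · exact hX h
      · obtain ⟨v, hv0, hv⟩ := h (x * y) ((O Q).mul_mem hx hy)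
          (by rw [(show Commute x y from hxy).mul_pow, hxp, hyp, one_mul])
        exact hno v hv0 hv
    have hxyO : x * y ∈ O Q := (O Q).mul_mem hx hy
    have hxyp : (x * y) ^ 5 = 1 := by rw [(show Commute x y from hxy).mul_pow, hxp, hyp, one_mul]
    obtain ⟨w, hw, hQw⟩ := exists_ns_fixed hG.nondeg hxyO (exists_dec hp.out hpF hxyp) hw₀ hw₀0
    obtain ⟨hxw, hyw⟩ := fixs_mul htr hxy hpF' hxp hw
    obtain ⟨t, ht, htx, hty, hct⟩ := corr hG hd hpF hx hy hyp hy1 htr' hxw hyw hQw hc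
    have hhx : (c * t) * x = x * (c * t) :=
      ((show Commute c x from hcx).mul_left (show Commute t x from htx)).eq
    have hhy : (c * t) * y * (c * t)⁻¹ = y ^ Fintype.card F := by
      have e : (c * t) * y * (c * t)⁻¹ = c * (t * y * t⁻¹) * c⁻¹ := by group
      rw [e, hty, mul_inv_cancel_right, hcy]
    refine Cfsg.Agent.H404.K6.KRow.of_inertial (inert_mk hG h2 hX hxE hyE hct hxp hyp hx1 hy1 hxy hnp hhx hhy (n := 4) ?_)
      (Or.inl ⟨rfl, le_rfl⟩)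
    intro i hi0 hi4 h
    have := pow_eq_one_five hd hpF h
    omega
  · -- `p = 7`
    have hhx : (c * c) * x = x * (c * c) := ((show Commute c x from hcx).mul_left (show Commute c x from hcx)).eq
    refine Cfsg.Agent.H404.K6.KRow.of_inertial (inert_mk hG h2 hX hxE hyE (sq_mem_E hG hc) hxp hyp hx1 hy1 hxy hnp hhx
      (conj_sq hcy) (n := 3) ?_) (Or.inr ⟨rfl, le_rfl⟩)
    intro i hi0 hi3 h
    have h1 := sq_ne (F := F) (p := 7) hd
    have h3 : (((Fintype.card F * Fintype.card F) ^ i : ℕ) : ZMod 7) = 1 := by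
      have := (ZMod.natCast_eq_natCast_iff _ _ _).2 h
      rwa [Nat.cast_one] at this
    have h0 : (Fintype.card F : ZMod 7) ≠ 0 := by rwa [Ne, ZMod.natCast_eq_zero_iff]
    push_cast at h1 h3
    interval_cases i
    · exact (seven_aux _ h0 h1).1 h3
    · exact (seven_aux _ h0 h1).2 h3

end Cfsg.Agent.H292.K6
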