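import Cfsg.Agent.H61.K6.CritO
import Cfsg.Agent.H292.KB.AllBut
import Cfsg.Agent.H92.ExcG2
import Cfsg.Agent.H374.EightExc
import Cfsg.Agent.S1059
import Cfsg.Agent.S1062
import Cfsg.Agent.S1063
import Cfsg.Agent.S1064
import Cfsg.Agent.S1065
import Cfsg.Agent.S1066
import Cfsg.Agent.S1067
import Cfsg.Agent.S1159

/-!
# S4876: the exceptional rows in own characteristic (helper292)

`KRow p X` for every group `X` of exceptional Lie type of odd characteristic `p` (criterion O: all irreducible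
characters but the Steinberg character lie in the principal block, eight element orders).

* `krow_of_orders` : the criterion;
* `exc`, `tw`, `ree` : the rows; `own_exc` : all of them.
-/

set_option autoImplicit false

namespace Cfsg.Agent.H292.K6

open Cfsg Cfsg.Lie Cfsg.Agent.H92.KTools Cfsg.Agent.H92.ExcSL2 Cfsg.Agent.H92.ExcG2 Cfsg.Agent.H436
open Cfsg.Agent.H61.K6

universe u v

/-- **Criterion O by element orders, own characteristic.** -/
theorem krow_of_orders {p : ℕ} [Fact p.Prime] (hp2 : p ≠ 2) {X : Type v} [Group X] [Finite X] [IsSimpleGroup X]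
    (hL : IsLieTypeChar p X) (T : Finset ℕ) (hT : ∀ n ∈ T, HasOrd X n) (h8 : 8 ≤ T.card) : KRow.{u, v} p X :=
  KRow.of_classes_inv orderOf (fun σ x => MulEquiv.orderOf_eq σ x) T hT h8
    fun M hM => KB.all_but_one hp2 hL M hM

theorem prim_gt {q e r : ℕ} (h : Prim q e r) (he : 3 ≤ e) : 3 < r := by
  have h1 := h.odd (by omega)
  have h2 := h.prime.two_le
  have h3 : r ≠ 3 := by
    rintro rfl
    have h4 : 3 ∣ q ^ 2 - 1 := by
      have h5 := h.not_dvd
      have h6 : q % 3 = 1 ∨ q % 3 = 2 := by omega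
      have h7 : q ^ 2 % 3 = 1 := by
        rcases h6 with h6 | h6 <;> simp [Nat.pow_mod, h6]
      omega
    have := Nat.le_of_dvd two_pos ((h.dvd_iff 2).1 h4)
    omega
  omega

theorem card_eight {a b c d e f g h : ℕ} (hn : [a, b, c, d, e, f, g, h].Nodup) :
    ({a, b, c, d, e, f, g, h} : Finset ℕ).card = 8 := by
  have := List.toFinset_card_of_nodup hn
  simpa using this

/-- four primes and `1, 2, 4, 8` -/
theorem row_four {p : ℕ} [Fact p.Prime] (hp2 : p ≠ 2) {X : Type v} [Group X] [Finite X] [IsSimpleGroup X]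
    (hL : IsLieTypeChar p X) {q : ℕ} (hq : 3 ≤ q) (h8 : HasOrd X 8)
    (hd : ∀ e r, 3 ≤ e → e ∣ 8 ∨ e ∣ 12 → Prim q e r → r ∣ Nat.card X) : KRow.{u, v} p X := by
  obtain ⟨a, ha⟩ := exists_prim (q := q) (e := 3) (by omega) (by norm_num) (by omega)
  obtain ⟨b, hb⟩ := exists_prim (q := q) (e := 4) (by omega) (by norm_num) (by omega)
  obtain ⟨c, hc⟩ := exists_prim (q := q) (e := 8) (by omega) (by norm_num) (by omega)
  obtain ⟨d, hd'⟩ := exists_prim (q := q) (e := 12) (by omega) (by norm_num) (by omega)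
  have a3 := prim_gt ha (by norm_num)
  have b3 := prim_gt hb (by norm_num)
  have c3 := prim_gt hc (by norm_num)
  have d3 := prim_gt hd' (by norm_num)
  have a2 := ha.odd (by norm_num)
  have b2 := hb.odd (by norm_num)
  have c2 := hc.odd (by norm_num)
  have d2 := hd'.odd (by norm_num)
  have ab : a ≠ b := by rintro rfl; exact absurd (ha.unique hb) (by norm_num)
  have ac : a ≠ c := by rintro rfl; exact absurd (ha.unique hc) (by norm_num)
  have ad : a ≠ d := by rintro rfl; exact absurd (ha.unique hd') (by norm_num)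
  have bc : b ≠ c := by rintro rfl; exact absurd (hb.unique hc) (by norm_num)
  have bd : b ≠ d := by rintro rfl; exact absurd (hb.unique hd') (by norm_num)
  have cd : c ≠ d := by rintro rfl; exact absurd (hc.unique hd') (by norm_num)
  refine krow_of_orders hp2 hL {1, 2, 4, 8, a, b, c, d} ?_ ?_
  · simp only [Finset.mem_insert, Finset.mem_singleton, forall_eq_or_imp, forall_eq]
    exact ⟨hasOrd_one X, h8.of_dvd (by norm_num) (by norm_num), h8.of_dvd (by norm_num) (by norm_num), h8,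
      hasOrd_prime ha.prime (hd 3 a (by norm_num) (by norm_num) ha),
      hasOrd_prime hb.prime (hd 4 b (by norm_num) (by norm_num) hb),
      hasOrd_prime hc.prime (hd 8 c (by norm_num) (by norm_num) hc),
      hasOrd_prime hd'.prime (hd 12 d (by norm_num) (by norm_num) hd')⟩
  · refine le_of_eq (card_eight ?_).symm
    simp only [List.nodup_cons, List.mem_cons, List.not_mem_nil, or_false, not_or, not_false_eq_true,
      List.nodup_nil, and_true]
    omega

theorem prim_twelve {q r : ℕ} (hq : 1 ≤ q) (hr : Prim q 12 r) : r ∣ q ^ 8 + q ^ 4 + 1 := by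
  have h2 : q ^ 12 - 1 = (q ^ 4 - 1) * (q ^ 8 + q ^ 4 + 1) := by
    obtain ⟨k, hk⟩ : ∃ k, q ^ 4 = k + 1 := ⟨q ^ 4 - 1, by have := Nat.one_le_pow 4 q (by omega); omega⟩
    have h3 : q ^ 12 = (q ^ 4) ^ 3 := by ring
    have h5 : q ^ 8 = (q ^ 4) ^ 2 := by ring
    rw [h3, h5, hk, Nat.add_sub_cancel]
    have : (k + 1) ^ 3 = k * ((k + 1) ^ 2 + (k + 1) + 1) + 1 := by ring
    rw [this, Nat.add_sub_cancel]
  have h3 := hr.dvd (m := 12) dvd_rfl
  rw [h2] at h3
  exact (hr.prime.dvd_mul.1 h3).resolve_left (hr.not_dvd_sub (by norm_num))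

theorem three_dvd (q : ℕ) : 3 ∣ q * (q ^ 2 - 1) := by
  have h1 : q % 3 = 0 ∨ q % 3 = 1 ∨ q % 3 = 2 := by omega
  rcases h1 with h1 | h1 | h1
  · exact (Nat.dvd_of_mod_eq_zero h1).mul_right _
  · refine Dvd.dvd.mul_left ?_ _
    have : q ^ 2 % 3 = 1 := by simp [Nat.pow_mod, h1]
    omega
  · refine Dvd.dvd.mul_left ?_ _
    have : q ^ 2 % 3 = 1 := by simp [Nat.pow_mod, h1]
    omega

/-- `³D₄` -/
theorem row_td4 {p : ℕ} [Fact p.Prime] (hp2 : p ≠ 2) {X : Type v} [Group X] [Finite X] [IsSimpleGroup X]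
    (hL : IsLieTypeChar p X) {q : ℕ} (hq : 3 ≤ q) (h8 : HasOrd X 8)
    (hc : Nat.card X = q ^ 12 * (q ^ 2 - 1) * (q ^ 6 - 1) * (q ^ 8 + q ^ 4 + 1)) : KRow.{u, v} p X := by
  obtain ⟨a, ha⟩ := exists_prim (q := q) (e := 3) (by omega) (by norm_num) (by omega)
  obtain ⟨b, hb⟩ := exists_prim (q := q) (e := 6) (by omega) (by norm_num) (by omega)
  obtain ⟨d, hd'⟩ := exists_prim (q := q) (e := 12) (by omega) (by norm_num) (by omega)
  have a3 := prim_gt ha (by norm_num)
  have b3 := prim_gt hb (by norm_num)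
  have d3 := prim_gt hd' (by norm_num)
  have a2 := ha.odd (by norm_num)
  have b2 := hb.odd (by norm_num)
  have d2 := hd'.odd (by norm_num)
  have ab : a ≠ b := by rintro rfl; exact absurd (ha.unique hb) (by norm_num)
  have ad : a ≠ d := by rintro rfl; exact absurd (ha.unique hd') (by norm_num)
  have bd : b ≠ d := by rintro rfl; exact absurd (hb.unique hd') (by norm_num)
  refine krow_of_orders hp2 hL {1, 2, 4, 8, 3, a, b, d} ?_ ?_
  · simp only [Finset.mem_insert, Finset.mem_singleton, forall_eq_or_imp, forall_eq]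
    refine ⟨hasOrd_one X, h8.of_dvd (by norm_num) (by norm_num), h8.of_dvd (by norm_num) (by norm_num), h8,
      hasOrd_prime Nat.prime_three ?_, hasOrd_prime ha.prime ?_, hasOrd_prime hb.prime ?_,
      hasOrd_prime hd'.prime ?_⟩
    · refine (three_dvd q).trans ?_
      rw [hc]
      exact ⟨q ^ 11 * (q ^ 6 - 1) * (q ^ 8 + q ^ 4 + 1), by ring⟩
    · rw [hc]; exact ((ha.dvd (m := 6) (by norm_num)).mul_left _).mul_right _
    · rw [hc]; exact ((hb.dvd (m := 6) (by norm_num)).mul_left _).mul_right _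
    · rw [hc]; exact (prim_twelve (by omega) hd').mul_left _
  · refine le_of_eq (card_eight ?_).symm
    simp only [List.nodup_cons, List.mem_cons, List.not_mem_nil, or_false, not_or, not_false_eq_true,
      List.nodup_nil, and_true]
    omega

/-- `G₂` -/
theorem row_g2 {p : ℕ} [hp : Fact p.Prime] (hp2 : p ≠ 2) {X : Type v} [Group X] [Finite X] [IsSimpleGroup X]
    (hL : IsLieTypeChar p X) {q : ℕ} (hq : 3 ≤ q) (hpq : p ∣ q) (h8 : HasOrd X 8) (h4p : HasOrd X (4 * p))
    (hc : Nat.card X = q ^ 6 * (q ^ 2 - 1) * (q ^ 6 - 1)) : KRow.{u, v} p X := by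
  obtain ⟨a, ha⟩ := exists_prim (q := q) (e := 3) (by omega) (by norm_num) (by omega)
  obtain ⟨b, hb⟩ := exists_prim (q := q) (e := 6) (by omega) (by norm_num) (by omega)
  have a3 := prim_gt ha (by norm_num)
  have b3 := prim_gt hb (by norm_num)
  have a2 := ha.odd (by norm_num)
  have b2 := hb.odd (by norm_num)
  have ab : a ≠ b := by rintro rfl; exact absurd (ha.unique hb) (by norm_num)
  have ap : a ≠ p := by rintro rfl; exact ha.not_dvd hpq
  have bp : b ≠ p := by rintro rfl; exact hb.not_dvd hpq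
  have hp3 := hp.out.two_le
  have hodd := hp.out.eq_two_or_odd
  refine krow_of_orders hp2 hL {1, 2, 4, 8, p, 4 * p, a, b} ?_ ?_
  · simp only [Finset.mem_insert, Finset.mem_singleton, forall_eq_or_imp, forall_eq]
    refine ⟨hasOrd_one X, h8.of_dvd (by norm_num) (by norm_num), h8.of_dvd (by norm_num) (by norm_num), h8,
      h4p.of_dvd (Dvd.intro_left 4 rfl) (by omega), h4p, hasOrd_prime ha.prime ?_, hasOrd_prime hb.prime ?_⟩
    · rw [hc]; exact (ha.dvd (m := 6) (by norm_num)).mul_left _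
    · rw [hc]; exact (hb.dvd (m := 6) (by norm_num)).mul_left _
  · refine le_of_eq (card_eight ?_).symm
    simp only [List.nodup_cons, List.mem_cons, List.not_mem_nil, or_false, not_or, not_false_eq_true,
      List.nodup_nil, and_true]
    omega

theorem dvd_of_mul {c d n e r q m : ℕ} (hr : Prim q e r) (he : d * c = n) (hm : q ^ m - 1 ∣ n) (hem : e ∣ m)
    (hd : ¬ r ∣ d) : r ∣ c := hr.dvd_of_eq he ((hr.dvd hem).trans hm) hd

/-- **`G₂`, `F₄`, `E₆`, `E₇`, `E₈`** -/
theorem exc {p : ℕ} [hp : Fact p.Prime] (hp2 : p ≠ 2) {X : Type v} [Group X] [Finite X] [IsSimpleGroup X]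
    (h : IsExceptionalChevChar p X) : KRow.{u, v} p X := by
  have hL : IsLieTypeChar p X := by
    iterate 6 right
    exact Or.inl h
  obtain ⟨F, _, _, _, h⟩ := h
  have hpq : p ∣ Fintype.card F := dvd_card (F := F) p Nat.card_eq_fintype_card
  have hq : 3 ≤ Fintype.card F := by
    have h1 := Nat.le_of_dvd Fintype.card_pos hpq
    have h2 := hp.out.two_le
    omega
  have hodd : Odd p := hp.out.odd_of_ne_two hp2
  rcases h with ⟨h3, ⟨e⟩⟩ | ⟨⟨e⟩⟩ | ⟨⟨e⟩⟩ | ⟨⟨e⟩⟩ | ⟨⟨e⟩⟩
  · have h2 : (2 : F) ≠ 0 := two_ne_zero_of (p := p) hp2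
    have c4 : Nat.Coprime 4 p := by
      rw [show 4 = 2 ^ 2 by norm_num]
      exact Nat.Coprime.pow_left 2 ((Nat.coprime_primes Nat.prime_two hp.out).2 (by omega))
    have h4p : HasOrd (chevG2.group F) (4 * p) := g2_mul (orderOf_wel h2) (orderOf_up p) hodd c4
    refine row_g2 hp2 hL hq hpq (H374.EightExc.G2 ⟨F, _, _, h3, ⟨e⟩⟩) (h4p.of_equiv e.symm) ?_
    rw [Nat.card_congr e.toEquiv]
    exact S1059.result rfl
  · refine row_four hp2 hL hq (H374.EightExc.F4 ⟨F, inferInstance, inferInstance, ⟨e⟩⟩) fun k r hk hkd hr => ?_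
    have hc := S1062.result (F := F) rfl
    rw [← Nat.card_congr e.toEquiv] at hc
    generalize Fintype.card F = q at *
    rw [hc]
    rcases hkd with hkd | hkd
    · exact ((hr.dvd hkd).mul_left _).mul_right _
    · exact (hr.dvd hkd).mul_left _
  · refine row_four hp2 hL hq (H374.EightExc.E6 ⟨F, inferInstance, inferInstance, ⟨e⟩⟩) fun k r hk hkd hr => ?_
    have hc := S1063.result (F := F) rfl
    rw [← Nat.card_congr e.toEquiv] at hc
    generalize Fintype.card F = q at *
    refine hr.dvd_of_eq hc ?_ (hr.not_dvd_gcd_sub hk)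
    rcases hkd with hkd | hkd
    · exact (((hr.dvd hkd).mul_left _).mul_right _).mul_right _
    · exact (hr.dvd hkd).mul_left _
  · refine row_four hp2 hL hq (H374.EightExc.E7 ⟨F, inferInstance, inferInstance, ⟨e⟩⟩) fun k r hk hkd hr => ?_
    have hc := S1064.result (F := F) rfl
    rw [← Nat.card_congr e.toEquiv] at hc
    generalize Fintype.card F = q at *
    refine hr.dvd_of_eq hc ?_ (hr.not_dvd_gcd_sub hk)
    rcases hkd with hkd | hkd
    · exact (((((hr.dvd hkd).mul_left _).mul_right _).mul_right _).mul_right _).mul_right _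
    · exact (((hr.dvd hkd).mul_left _).mul_right _).mul_right _
  · refine row_four hp2 hL hq (H374.EightExc.E8 ⟨F, inferInstance, inferInstance, ⟨e⟩⟩) fun k r hk hkd hr => ?_
    have hc := S1065.result (F := F) rfl
    rw [← Nat.card_congr e.toEquiv] at hc
    generalize Fintype.card F = q at *
    rw [hc]
    rcases hkd with hkd | hkd
    · exact ((((((hr.dvd hkd).mul_left _).mul_right _).mul_right _).mul_right _).mul_right _).mul_right _ |>.mul_right _
    · exact (((((hr.dvd hkd).mul_left _).mul_right _).mul_right _).mul_right _).mul_right _ |>.mul_right _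

/-- **`²E₆`, `³D₄`** -/
theorem tw {p : ℕ} [hp : Fact p.Prime] (hp2 : p ≠ 2) {X : Type v} [Group X] [Finite X] [IsSimpleGroup X]
    (h : IsTwistedE6D4Char p X) : KRow.{u, v} p X := by
  have hL : IsLieTypeChar p X := by
    iterate 7 right
    exact Or.inl h
  obtain ⟨K, _, _, _, q, hpp, h⟩ := h
  have hpK : p ∣ Fintype.card K := dvd_card (F := K) p Nat.card_eq_fintype_card
  have hpq : p ∣ q := by
    rcases h with ⟨hK, -⟩ | ⟨hK, -⟩ <;> exact hp.out.dvd_of_dvd_pow (hK ▸ hpK)
  have hq : 3 ≤ q := by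
    have h1 := Nat.le_of_dvd hpp.pos hpq
    have h2 := hp.out.two_le
    omega
  rcases h with ⟨hK, ⟨e⟩⟩ | ⟨hK, ⟨e⟩⟩
  · refine row_four hp2 hL hq (H374.EightExc.twE6 ⟨K, _, _, q, hpp, hK, ⟨e⟩⟩) fun k r hk hkd hr => ?_
    have hc := S1066.result hpp hK
    rw [← Nat.card_congr e.toEquiv] at hc
    refine hr.dvd_of_eq hc ?_ (hr.not_dvd_gcd_add hk)
    rcases hkd with hkd | hkd
    · exact (((hr.dvd hkd).mul_left _).mul_right _).mul_right _
    · exact (hr.dvd hkd).mul_left _
  · refine row_td4 hp2 hL hq (H374.EightExc.twD4 ⟨K, _, _, q, hpp, hK, ⟨e⟩⟩) ?_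
    rw [Nat.card_congr e.toEquiv]
    exact S1067.result hpp hK

/-- **`²G₂`** -/
theorem ree {X : Type v} [Group X] [Finite X] [IsSimpleGroup X] (h : Lie.IsoRee X) : KRow.{u, v} 3 X := by
  have : Fact (Nat.Prime 3) := ⟨Nat.prime_three⟩
  have hL : IsLieTypeChar 3 X := by
    iterate 10 right
    exact ⟨rfl, h⟩
  obtain ⟨K, _, _, m, hm, hK, ⟨e⟩⟩ := h
  have ho := fun d => S1159.result hm hK d
  have hq : 27 ≤ 3 ^ (2 * m + 1) := by
    have := Nat.pow_le_pow_right (n := 3) (by norm_num) (show 3 ≤ 2 * m + 1 by omega)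
    norm_num at this
    exact this
  have hr : 9 ≤ 3 ^ (m + 1) := by
    have := Nat.pow_le_pow_right (n := 3) (by norm_num) (show 2 ≤ m + 1 by omega)
    norm_num at this
    exact this
  have hqr : 3 * 3 ^ (2 * m + 1) = 3 ^ (m + 1) * 3 ^ (m + 1) := by
    rw [← pow_add, ← pow_succ']
    congr 1
    ring
  have hle : 3 * 3 ^ (m + 1) ≤ 3 ^ (2 * m + 1) := by nlinarith
  refine krow_of_orders (by norm_num) hL {1, 2, 3, 6, 9, (3 ^ (2 * m + 1) - 1) / 2,
    3 ^ (2 * m + 1) + 3 ^ (m + 1) + 1, 3 ^ (2 * m + 1) - 3 ^ (m + 1) + 1} ?_ ?_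
  · intro n hn
    refine HasOrd.of_equiv (H := ↥(Cfsg.Lie.twistedG2 K (3 ^ m))) ?_ e.symm
    refine (ho n).2 ?_
    simp only [Finset.mem_insert, Finset.mem_singleton] at hn
    rcases hn with rfl | rfl | rfl | rfl | rfl | rfl | rfl | rfl
    · exact Or.inl (by norm_num)
    · exact Or.inl (by norm_num)
    · exact Or.inl (by norm_num)
    · exact Or.inl (by norm_num)
    · exact Or.inr (Or.inl (by norm_num))
    · right; right; left
      refine Nat.div_dvd_of_dvd ?_
      have : 3 ^ (2 * m + 1) % 2 = 1 := by rw [Nat.pow_mod]; simp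
      omega
    · exact Or.inr (Or.inr (Or.inr (Or.inr (Or.inr dvd_rfl))))
    · exact Or.inr (Or.inr (Or.inr (Or.inr (Or.inl dvd_rfl))))
  · refine le_of_eq (card_eight ?_).symm
    simp only [List.nodup_cons, List.mem_cons, List.not_mem_nil, or_false, not_or, not_false_eq_true,
      List.nodup_nil, and_true]
    omega

/-- **All exceptional groups of odd characteristic `p`.** -/
theorem own_exc {p : ℕ} [Fact p.Prime] (hp2 : p ≠ 2) {X : Type v} [Group X] [Finite X] [IsSimpleGroup X]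
    (h : IsExceptionalChevChar p X ∨ IsTwistedE6D4Char p X ∨ (p = 3 ∧ Lie.IsoRee X)) : KRow.{u, v} p X := by
  rcases h with h | h | ⟨rfl, h⟩
  · exact exc hp2 h
  · exact tw hp2 h
  · exact ree h

end Cfsg.Agent.H292.K6
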