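import Cfsg.Agent.H193.K6.Lin
import Cfsg.Agent.H292.KB.AllBut
import Cfsg.Agent.H423.PGOrthS
import Cfsg.Agent.H198.Carriers
import Cfsg.Agent.LieClassical.OrthCenter
import Cfsg.Agent.S0292
import Cfsg.Agent.S0293
import Cfsg.Agent.S0294
import Cfsg.Agent.H92.ExcG2

/-!
# S4876: the orthogonal rows in own characteristic (helper292)

`KRow p X` for the groups `PΩ_{2m+1}(q)`, `PΩ⁺_{2m}(q)`, `PΩ⁻_{2m}(q)` of odd characteristic `p` (criterion O: all
irreducible characters but the Steinberg character lie in the principal block; `SL₃(q)` embeds, so there are eight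
element orders).
-/

set_option autoImplicit false

namespace Cfsg.Agent.H292.K6.Orth

open Cfsg Matrix
open Cfsg.Agent.H193.K6 Cfsg.Agent.H61.K6
open Cfsg.Agent.H423.PGOrth Cfsg.Agent.H423.PGOrthS Cfsg.Agent.H423.PGPerf Cfsg.Agent.H423.PGBlk
open Cfsg.Agent.H198.Carriers Cfsg.Agent.LieClassical.OrthTrans QuadraticMap

universe u v

section

variable {F : Type} [Field F] [Fintype F]

omit [Fintype F] in
theorem has_two_three {n : ℕ} (h : Has (SpecialLinearGroup (Fin 2) F) n) : Has (SpecialLinearGroup (Fin 3) F) n := by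
  let e : Fin 2 ⊕ Fin 1 ≃ Fin 3 := finSumFinEquiv
  refine h.map ((blkSL (K := F) e).comp (MonoidHom.inl _ _)) ?_
  intro x y hxy
  exact (Prod.ext_iff.1 (blkSL_injective e hxy)).1

variable {ι : Type} [Fintype ι] [DecidableEq ι] {Q : QuadraticForm F (ι → F)}

/-- central elements are involutions -/
theorem sq_of_center (hG : Good Q) {z : ↥(Omega F ⇑Q)} (hz : z ∈ Subgroup.center ↥(Omega F ⇑Q)) : z ^ 2 = 1 := by
  have hnd : (polarBilin Q).Nondegenerate :=
    ⟨fun x hx => hG.nondeg x hx, fun x hx => hG.nondeg x fun y => by rw [polar_comm]; exact hx y⟩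
  have hcard : 5 ≤ Fintype.card ι := by
    have := hG.dim
    rwa [Module.finrank_fintype_fun_eq_card] at this
  have h1 : (((z : Cfsg.isometryGroup F (⇑Q)) : Matrix.GeneralLinearGroup ι F) : Matrix ι ι F) *
      (((z : Cfsg.isometryGroup F (⇑Q)) : Matrix.GeneralLinearGroup ι F) : Matrix ι ι F) = 1 := by
    rcases (LieClassical.OrthCenter.mem_center_omega_iff hnd (by omega) hG.sing z).1 hz with h | h
    · rw [h, one_mul]
    · rw [h, neg_mul_neg, one_mul]
  rw [pow_two]
  apply Subtype.ext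
  apply Subtype.ext
  apply Units.ext
  exact h1

/-- **all element orders of `SL₃(F)` occur in `PΩ(Q)`** -/
theorem has_of_sl3 (hG : Good Q)
    (J : ↥(Cfsg.isometryGroup F (Cfsg.quadFormPlus 3 F)) →* ↥(Cfsg.isometryGroup F ⇑Q))
    (hJ : Function.Injective J) {n : ℕ} (hn : Has (SpecialLinearGroup (Fin 3) F) n) : Has (POmega F ⇑Q) n := by
  have hcomm : commutator (SpecialLinearGroup (Fin 3) F) = ⊤ :=
    Cfsg.Agent.LieClassical.SLGen.commutator_eq_top (by rw [Fintype.card_fin])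
  obtain ⟨f', hf'⟩ := exists_lift hcomm (J.comp (lev 3))
  have hinj : Function.Injective f' := by
    intro a b hab
    apply (hJ.comp (lev_injective 3))
    have h1 := hf' a
    have h2 := hf' b
    rw [hab, h2] at h1
    exact h1.symm
  have hinj2 : Function.Injective ((QuotientGroup.mk' (Subgroup.center ↥(Omega F ⇑Q))).comp f') := by
    rw [injective_iff_map_eq_one]
    intro a ha
    have hac : f' a ∈ Subgroup.center ↥(Omega F ⇑Q) := (QuotientGroup.eq_one_iff (f' a)).1 ha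
    have hsq : a ^ 2 = 1 := by
      apply hinj
      rw [map_pow, map_one]
      exact sq_of_center hG hac
    have hcen : a ∈ Subgroup.center (SpecialLinearGroup (Fin 3) F) := by
      rw [Subgroup.mem_center_iff]
      intro b
      apply hinj
      rw [map_mul, map_mul]
      exact Subgroup.mem_center_iff.1 hac (f' b)
    obtain ⟨r, hr, hrz⟩ := Matrix.SpecialLinearGroup.mem_center_iff.1 hcen
    have hr3 : r ^ 3 = 1 := by simpa using hr
    have hr2 : r ^ 2 = 1 := by
      have h1 : ((a ^ 2 : SpecialLinearGroup (Fin 3) F) : Matrix (Fin 3) (Fin 3) F) 0 0 = 1 := by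
        rw [hsq]; rfl
      have h2 : ((a ^ 2 : SpecialLinearGroup (Fin 3) F) : Matrix (Fin 3) (Fin 3) F) = (a : Matrix (Fin 3) (Fin 3) F) ^ 2 :=
        Matrix.SpecialLinearGroup.coe_pow a 2
      rw [h2, ← hrz, ← map_pow] at h1
      simpa using h1
    have hr1 : r = 1 := by
      calc r = r ^ 3 * (r ^ 2)⁻¹ := by rw [hr2]; rw [inv_one, mul_one, pow_succ, hr2, one_mul]
        _ = 1 := by rw [hr3, hr2, inv_one, mul_one]
    apply Subtype.ext
    change (a : Matrix (Fin 3) (Fin 3) F) = 1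
    rw [← hrz, hr1, map_one]
  exact hn.map _ hinj2

/-- eight classes -/
theorem eight_of_sl3 {p : ℕ} [hp : Fact p.Prime] [CharP F p] (hp2 : p ≠ 2) (hodd : Odd (Fintype.card F))
    {X : Type*} [Group X] [Finite X] (h : ∀ n, Has (SpecialLinearGroup (Fin 3) F) n → Has X n)
    (h5 : Fintype.card F = 3 → 5 ∣ Nat.card X) : Eight X := by
  have h2 : ∀ n, Has (SpecialLinearGroup (Fin 2) F) n → Has X n := fun n hn => h n (has_two_three hn)
  have hsing : ∀ {d : ℕ}, d ∣ Fintype.card F ^ 3 - 1 → Nat.Coprime d (Fintype.card F - 1) → Has X d := by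
    intro d hd hco
    obtain ⟨A, hA, hAd, hk⟩ := H72.AdjPSL.hasBlock_singer (F := F) (a := 3) (by norm_num) hd hco
    refine h d ⟨⟨A, hA⟩, ?_⟩
    refine Nat.dvd_antisymm (orderOf_dvd_of_pow_eq_one ?_) (hk _ ?_)
    · apply Subtype.ext
      exact (Matrix.SpecialLinearGroup.coe_pow (⟨A, hA⟩ : SpecialLinearGroup (Fin 3) F) d).trans hAd
    · let a : SpecialLinearGroup (Fin 3) F := ⟨A, hA⟩
      have h3 : ((a ^ orderOf a : SpecialLinearGroup (Fin 3) F) : Matrix (Fin 3) (Fin 3) F) = 1 := by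
        rw [pow_orderOf_eq_one]; rfl
      exact (Matrix.SpecialLinearGroup.coe_pow a _).symm.trans h3
  obtain ⟨r, hr⟩ := hodd
  have hF1 : 1 < Fintype.card F := Fintype.one_lt_card
  rcases (by omega : Fintype.card F = 3 ∨ Fintype.card F = 5 ∨ 7 ≤ Fintype.card F) with h3 | h5' | h7
  · have h0 : ∀ m ∈ ({1, 2, 3, 4, 6} : Finset ℕ), Has X m := fun m hm => has_of_three h3 h2 hm
    refine Eight.of_has {1, 2, 3, 4, 6, 8, 13, 5} ?_ (by decide)
    intro m hm
    simp only [Finset.mem_insert, Finset.mem_singleton] at hm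
    rcases hm with rfl | rfl | rfl | rfl | rfl | rfl | rfl | rfl
    · exact h0 _ (by decide)
    · exact h0 _ (by decide)
    · exact h0 _ (by decide)
    · exact h0 _ (by decide)
    · exact h0 _ (by decide)
    · exact h _ (has_sl3_eight h3)
    · exact hsing (by rw [h3]; norm_num) (by rw [h3]; norm_num)
    · exact has_prime Nat.prime_five (h5 h3)
  · exact eight_of_five h5' h2 (r := 31) (hsing (by rw [h5']; norm_num) (by rw [h5']; norm_num)) (by decide)
  · exact eight_of_seven hp2 h7 ⟨r, hr⟩ h2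

end

theorem odd_of_charP {F : Type} [Field F] [Fintype F] {p : ℕ} [hp : Fact p.Prime] [CharP F p] (hp2 : p ≠ 2) :
    Odd (Fintype.card F) := by
  obtain ⟨n, -, hn⟩ := FiniteField.card F p
  rw [hn]
  exact (hp.out.odd_of_ne_two hp2).pow

/-- `PΩ_{2m+1}` -/
theorem eight_odd {F : Type} [Field F] [Fintype F] {p : ℕ} [hp : Fact p.Prime] [CharP F p] (hp2 : p ≠ 2) {m : ℕ}
    (hm : 3 ≤ m) : Eight (POmega F (Cfsg.quadFormOdd m F)) := by
  have hodd := odd_of_charP (F := F) hp2
  have h2 : (2 : F) ≠ 0 := H92.ExcG2.two_ne_zero_of (p := p) hp2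
  have hG : Good (oddQ m F) := good_oddQ (by omega) h2
  obtain ⟨l, rfl⟩ : ∃ l, m = 3 + l := ⟨m - 3, by omega⟩
  refine eight_of_sl3 (F := F) hp2 hodd (fun n hn => ?_) fun h3 => ?_
  · exact has_of_sl3 (Q := oddQ (3 + l) F) hG ((isoBlk _ (spl_odd' (F := F) 3 l)).comp (MonoidHom.inl _ _))
      (fun x y h => (Prod.ext_iff.1 (isoBlk_injective _ (spl_odd' (F := F) 3 l) h)).1) hn
  · have hc := S0292.result (F := F) h3 (by decide) (3 + l) (by omega)
    have h5 : 5 ∣ 2 * Nat.card (POmega F (Cfsg.quadFormOdd (3 + l) F)) := by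
      rw [hc]
      refine Dvd.dvd.mul_left (dvd_trans (b := 3 ^ (2 * (1 + 1)) - 1) (by norm_num) ?_) _
      exact Finset.dvd_prod_of_mem (fun i => 3 ^ (2 * (i + 1)) - 1) (Finset.mem_range.2 (by omega))
    exact (Nat.prime_five.dvd_mul.1 h5).resolve_left (by norm_num)

/-- `PΩ⁺_{2m}` -/
theorem eight_plus {F : Type} [Field F] [Fintype F] {p : ℕ} [hp : Fact p.Prime] [CharP F p] (hp2 : p ≠ 2) {m : ℕ}
    (hm : 4 ≤ m) : Eight (POmega F (Cfsg.quadFormPlus m F)) := by
  have hodd := odd_of_charP (F := F) hp2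
  have hG : Good (plusQ m F) := good_plusQ (by omega)
  obtain ⟨l, rfl⟩ : ∃ l, m = 3 + l := ⟨m - 3, by omega⟩
  have : Nonempty (Fin (3 + l) ⊕ Fin (3 + l)) := ⟨Sum.inl ⟨0, by omega⟩⟩
  refine eight_of_sl3 (F := F) hp2 hodd (fun n hn => ?_) fun h3 => ?_
  · exact has_of_sl3 (Q := plusQ (3 + l) F) hG ((isoBlk _ (spl_plus (F := F) 3 l)).comp (MonoidHom.inl _ _))
      (fun x y h => (Prod.ext_iff.1 (isoBlk_injective _ (spl_plus (F := F) 3 l) h)).1) hn
  · have hc := S0293.result (F := F) h3 (3 + l) (by omega)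
    have h5 : 5 ∣ Nat.gcd 4 (3 ^ (3 + l) - 1) * Nat.card (POmega F (Cfsg.quadFormPlus (3 + l) F)) := by
      rw [hc]
      refine Dvd.dvd.mul_left (dvd_trans (b := 3 ^ (2 * (1 + 1)) - 1) (by norm_num) ?_) _
      exact Finset.dvd_prod_of_mem (fun i => 3 ^ (2 * (i + 1)) - 1) (Finset.mem_range.2 (by omega))
    refine (Nat.prime_five.dvd_mul.1 h5).resolve_left fun h => ?_
    have h1 : 5 ∣ 4 := h.trans (Nat.gcd_dvd_left _ _)
    norm_num at h1

/-- `PΩ⁻_{2m}` -/
theorem eight_minus {F : Type} [Field F] [Fintype F] {p : ℕ} [hp : Fact p.Prime] [CharP F p] (hp2 : p ≠ 2) {m : ℕ}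
    (hm : 4 ≤ m) {a b : F} (hab : ∀ z₁ z₂ : F, z₁ ^ 2 + a * z₁ * z₂ + b * z₂ ^ 2 = 0 → z₁ = 0 ∧ z₂ = 0) :
    Eight (POmega F (Cfsg.quadFormMinus (m - 1) F a b)) := by
  have hodd := odd_of_charP (F := F) hp2
  have hG : Good (minusQ (m - 1) F a b) := good_minusQ (by omega) hab
  have hl : 3 + (m - 4) = m - 1 := by omega
  have hc := S0294.result (F := F) rfl m hm a b hab
  generalize m - 1 = k at hl hG hc ⊢
  subst hl
  refine eight_of_sl3 (F := F) hp2 hodd (fun n hn => ?_) fun h3 => ?_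
  · exact has_of_sl3 (Q := minusQ (3 + (m - 4)) F a b) hG
      ((isoBlk _ (spl_minus' (F := F) 3 (m - 4) a b)).comp (MonoidHom.inl _ _))
      (fun x y h => (Prod.ext_iff.1 (isoBlk_injective _ (spl_minus' (F := F) 3 (m - 4) a b) h)).1) hn
  · rw [h3] at hc
    have h5 : 5 ∣ Nat.gcd 4 (3 ^ m + 1) * Nat.card (POmega F (Cfsg.quadFormMinus (3 + (m - 4)) F a b)) := by
      rw [hc]
      refine Dvd.dvd.mul_left (dvd_trans (b := 3 ^ (2 * (1 + 1)) - 1) (by norm_num) ?_) _
      exact Finset.dvd_prod_of_mem (fun i => 3 ^ (2 * (i + 1)) - 1) (Finset.mem_range.2 (by omega))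
    refine (Nat.prime_five.dvd_mul.1 h5).resolve_left fun h => ?_
    have h1 : 5 ∣ 4 := h.trans (Nat.gcd_dvd_left _ _)
    norm_num at h1

/-- **The orthogonal groups in own characteristic.** -/
theorem own_orth {p : ℕ} [hp : Fact p.Prime] (hp2 : p ≠ 2) {X : Type v} [Group X] [Finite X] [IsSimpleGroup X]
    (h : IsPOmegaOddChar p X ∨ IsPOmegaPlusChar p X ∨ IsPOmegaMinusChar p X) : KRow.{u, v} p X := by
  have hL : IsLieTypeChar p X := by
    rcases h with h | h | h
    · iterate 3 right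
      exact Or.inl h
    · iterate 4 right
      exact Or.inl h
    · iterate 5 right
      exact Or.inl h
  refine krow_of_eight ?_ fun M hM => KB.all_but_one hp2 hL M hM
  rcases h with ⟨F, _, _, _, m, hm, -, ⟨e⟩⟩ | ⟨F, _, _, _, m, hm, ⟨e⟩⟩ | ⟨F, _, _, _, m, a, b, hm, hab, ⟨e⟩⟩
  · exact (eight_odd hp2 hm).congr e.symm
  · exact (eight_plus hp2 hm).congr e.symm
  · exact (eight_minus hp2 hm hab).congr e.symm

end Cfsg.Agent.H292.K6.Orth
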