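import Cfsg.Agent.H292.K6.OwnExc
import Cfsg.Agent.H292.K6.OwnOrth
import Cfsg.Agent.H436.Names

/-!
# S4876: the orthogonal and exceptional rows in own characteristic, in the form of `tools/plans/S4876_tasks.lean`
(helper292)
-/

set_option autoImplicit false

namespace Cfsg.Agent.H292.K6

open Cfsg Cfsg.Agent.H61.K6 Cfsg.Agent.H436 Cfsg.Agent.OrdDiv

universe u v

variable {S : Type v} [Group S] [Finite S] [IsSimpleGroup S] {p : ℕ} [hp : Fact p.Prime] {m q : ℕ}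

theorem charP_of_dvd {F : Type} [Field F] [Fintype F] (hd : p ∣ Fintype.card F) : CharP F p := by
  obtain ⟨r, hr⟩ := CharP.exists F
  obtain ⟨k, hrp, hk⟩ := FiniteField.card F r
  rw [hk] at hd
  have h1 : p = r := (Nat.prime_dvd_prime_iff_eq hp.out hrp).1 (hp.out.dvd_of_dvd_pow hd)
  rwa [h1]

/-- `PΩ` -/
theorem named_orth (hp2 : p ≠ 2) {g : Grp} (hg : g = .oodd m q ∨ g = .oplus m q ∨ g = .ominus m q) (h : IsNamed g S)
    (hq : p ∣ q) : KRow.{u, v} p S := by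
  rcases hg with rfl | rfl | rfl
  · obtain ⟨F, i1, i2, hF, ⟨e⟩⟩ := h.real
    have hcp : CharP F p := charP_of_dvd (by rw [hF]; exact hq)
    exact Orth.own_orth hp2 (Or.inl ⟨F, i1, i2, hcp, m, h.cond.1, by rw [hF]; exact h.cond.2.1, ⟨e⟩⟩)
  · obtain ⟨F, i1, i2, hF, ⟨e⟩⟩ := h.real
    have hcp : CharP F p := charP_of_dvd (by rw [hF]; exact hq)
    exact Orth.own_orth hp2 (Or.inr (Or.inl ⟨F, i1, i2, hcp, m, h.cond.1, ⟨e⟩⟩))
  · obtain ⟨F, i1, i2, a, b, hF, hab, ⟨e⟩⟩ := h.real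
    have hcp : CharP F p := charP_of_dvd (by rw [hF]; exact hq)
    exact Orth.own_orth hp2 (Or.inr (Or.inr ⟨F, i1, i2, hcp, m, a, b, h.cond.1, hab, ⟨e⟩⟩))

/-- the exceptional groups -/
theorem named_exc (hp2 : p ≠ 2) {g : Grp}
    (hg : g = .g2 q ∨ g = .f4 q ∨ g = .e6 q ∨ g = .e7 q ∨ g = .e8 q ∨ g = .te6 q ∨ g = .td4 q) (h : IsNamed g S)
    (hq : p ∣ q) : KRow.{u, v} p S := by
  rcases hg with rfl | rfl | rfl | rfl | rfl | rfl | rfl
  · obtain ⟨F, i1, i2, hF, he⟩ := h.real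
    have hcp : CharP F p := charP_of_dvd (by rw [hF]; exact hq)
    exact exc hp2 ⟨F, i1, i2, hcp, Or.inl ⟨by rw [hF]; exact h.cond.1, he⟩⟩
  · obtain ⟨F, i1, i2, hF, he⟩ := h.real
    have hcp : CharP F p := charP_of_dvd (by rw [hF]; exact hq)
    exact exc hp2 ⟨F, i1, i2, hcp, Or.inr (Or.inl he)⟩
  · obtain ⟨F, i1, i2, hF, he⟩ := h.real
    have hcp : CharP F p := charP_of_dvd (by rw [hF]; exact hq)
    exact exc hp2 ⟨F, i1, i2, hcp, Or.inr (Or.inr (Or.inl he))⟩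
  · obtain ⟨F, i1, i2, hF, he⟩ := h.real
    have hcp : CharP F p := charP_of_dvd (by rw [hF]; exact hq)
    exact exc hp2 ⟨F, i1, i2, hcp, Or.inr (Or.inr (Or.inr (Or.inl he)))⟩
  · obtain ⟨F, i1, i2, hF, he⟩ := h.real
    have hcp : CharP F p := charP_of_dvd (by rw [hF]; exact hq)
    exact exc hp2 ⟨F, i1, i2, hcp, Or.inr (Or.inr (Or.inr (Or.inr he)))⟩
  · obtain ⟨F, i1, i2, hF, he⟩ := h.real
    have hcp : CharP F p := charP_of_dvd (by rw [hF]; exact hq.trans (dvd_pow_self q two_ne_zero))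
    exact tw hp2 ⟨F, i1, i2, hcp, q, h.cond, Or.inl ⟨hF, he⟩⟩
  · obtain ⟨F, i1, i2, hF, he⟩ := h.real
    have hcp : CharP F p := charP_of_dvd (by rw [hF]; exact hq.trans (dvd_pow_self q three_ne_zero))
    exact tw hp2 ⟨F, i1, i2, hcp, q, h.cond, Or.inr ⟨hF, he⟩⟩

/-- the Ree groups -/
theorem named_ree (h : IsNamed (.ree q) S) : KRow.{u, v} 3 S := by
  have hr := h.real
  obtain ⟨F, i1, i2, k, hk, hF, hF', he⟩ := hr
  exact ree ⟨F, i1, i2, k, hk, hF.trans hF', he⟩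

end Cfsg.Agent.H292.K6
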