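import Mathlib
import Cfsg.Agent.H292.K6.OrthMore
import Cfsg.Agent.H418.KB.Minus
import Cfsg.Agent.H875.KB.Final
import Cfsg.Agent.H436.Names
import Cfsg.Agent.AutOrth.Final
import Cfsg.Agent.LieClassical.OrthForms

/-!
# S4876, orthogonal groups, `p = 5`, `7`, `p ∤ q² - 1` (helper292): the rows

`oodd_more`, `oplus_more` (`m ≥ 5`), `ominus_more` of `tools/plans/S4876_tasks.lean`.
-/

set_option autoImplicit false

open QuadraticMap Module Cfsg Subgroup Cfsg.Agent.H61.K6 Cfsg.Agent.H418.KB Cfsg.Agent.H436 Cfsg.Agent.OrdDiv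
open Cfsg.Agent.LieClassical.OrthCore Cfsg.Agent.LieClassical.OrthTrans Cfsg.Agent.LieClassical.OrthForms
open Cfsg.Agent.LieClassical.OrthFinite Cfsg.Agent.ClassicalGeometry.OrthSemi Cfsg.Agent.ClassicalGeometry.OrthSemiForms

namespace Cfsg.Agent.H292.K6

universe u v

theorem row_of_more {F : Type} [Field F] [Fintype F] {ι : Type} [Fintype ι] [DecidableEq ι]
    {Q : QuadraticForm F (ι → F)} {p : ℕ} [hp : Fact p.Prime] (hQ : Nondeg Q) (h7 : 7 ≤ Fintype.card ι)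
    (h57 : p = 5 ∨ p = 7) (hpF : ¬ p ∣ Fintype.card F) (hd : ¬ p ∣ Fintype.card F ^ 2 - 1)
    (hs : Function.Surjective (Psi Q)) {f : (ι → F) → F} (hf : ⇑Q = f) {S : Type v} [Group S] [Finite S]
    (e : S ≃* POmega F f) (hnc : ∀ P : Sylow p S, ¬ IsCyclic (P : Subgroup S))
    (h8 : p = 5 → 8 ∣ Fintype.card ι → 5 ^ 3 ∣ Nat.card S ∨ ∀ z ∈ O Q, z ^ 5 = 1 → ∃ v, v ≠ 0 ∧ z v = v) :
    KRow.{u, v} p S := by
  subst hf
  have hG : Good Q := good_of_finite hQ (by rw [Module.finrank_fintype_fun_eq_card]; omega)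
  have h2 : p ≠ 2 := by rcases h57 with rfl | rfl <;> norm_num
  obtain ⟨R, hRO, hR, hRnc⟩ := Cfsg.Agent.H875.KB.exists_R hG h2 (e.trans (pomegaEquiv hG)) hnc
  refine (krow_more hG h57 hpF hd (fixInv_of_surj hG (hp.out.odd_of_ne_two h2) hs) hRO hR hRnc ?_).congr
    (e.trans (pomegaEquiv hG)).symm
  intro h5 hdvd
  rw [Module.finrank_fintype_fun_eq_card] at hdvd
  rw [← Nat.card_congr (e.trans (pomegaEquiv hG)).toEquiv]
  exact h8 h5 hdvd

/-- `5³` divides the order -/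
theorem prB_dvd {q k : ℕ} (hq : ¬ 5 ∣ q) (hk : 6 ≤ k) : 5 ^ 3 ∣ prB q k := by
  have h4 : ∀ i, 5 ∣ q ^ (2 * (2 * i + 1 + 1)) - 1 := by
    intro i
    have h1 : (q : ZMod 5) ≠ 0 := by rwa [Ne, ZMod.natCast_eq_zero_iff]
    have h2 : (q : ZMod 5) ^ 4 = 1 := by
      generalize (q : ZMod 5) = a at h1
      revert a; decide
    rcases Nat.eq_zero_or_pos q with rfl | h0
    · exact absurd (dvd_zero 5) hq
    rw [← ZMod.natCast_eq_zero_iff, Nat.cast_sub (Nat.one_le_pow _ _ h0), Nat.cast_pow, Nat.cast_one,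
      show 2 * (2 * i + 1 + 1) = 4 * (i + 1) by ring, pow_mul, h2, one_pow, sub_self]
  have h6 : prB q 6 ∣ prB q k := by
    unfold prB
    rw [prod_list, prod_list]
    exact Finset.prod_dvd_prod_of_subset _ _ _ (Finset.range_mono hk)
  refine dvd_trans ?_ h6
  unfold prB
  rw [prod_list]
  simp only [Finset.prod_range_succ, Finset.prod_range_zero, one_mul]
  have a := h4 0
  have b := h4 1
  have c := h4 2
  have h : 5 ^ 3 ∣ (q ^ (2 * (2 * 0 + 1 + 1)) - 1) * (q ^ (2 * (2 * 1 + 1 + 1)) - 1) *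
      (q ^ (2 * (2 * 2 + 1 + 1)) - 1) := by
    rw [show 5 ^ 3 = 5 * 5 * 5 by norm_num]
    exact mul_dvd_mul (mul_dvd_mul a b) c
  refine dvd_trans h ?_
  norm_num
  refine ⟨(q ^ 2 - 1) * (q ^ 6 - 1) * (q ^ 10 - 1), ?_⟩
  ring

theorem five_aux : ∀ c : ZMod 5, c ≠ 0 → c ^ 2 ≠ 1 → (c ^ 3 - 1) * (c ^ (3 + 1) + 1) ≠ 0 := by decide

theorem dvd_of_eq {d s n : ℕ} (hd : d ∣ 4) (h : d * s = n) (hn : 5 ^ 3 ∣ n) : 5 ^ 3 ∣ s := by
  have h1 : Nat.Coprime (5 ^ 3) d := Nat.Coprime.coprime_dvd_right hd (by norm_num)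
  rw [← h] at hn
  exact h1.dvd_of_dvd_mul_left hn

variable {S : Type v} [Group S] [Finite S] {p : ℕ} [hp : Fact p.Prime] {m q : ℕ}

/-- **`PΩ_{2m+1}(q)`** -/
theorem oodd_more (h57 : p = 5 ∨ p = 7) (hnc : ∀ P : Sylow p S, ¬ IsCyclic (P : Subgroup S))
    (h : IsNamed (.oodd m q) S) (hq : ¬ p ∣ q) (hd : ¬ p ∣ q ^ 2 - 1) : KRow.{u, v} p S := by
  obtain ⟨F, i1, i2, hF, ⟨e⟩⟩ := h.real
  have hc := h.cond
  have h2 : (2 : F) ≠ 0 := by
    intro h2
    have h3 : ringChar F = 2 := by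
      have h4 : ringChar F ∣ 2 := ringChar.dvd (by exact_mod_cast h2)
      have h5 : ringChar F ≠ 1 := CharP.ringChar_ne_one
      exact ((Nat.dvd_prime Nat.prime_two).1 h4).resolve_left h5
    have h6 := FiniteField.even_card_iff_char_two.1 h3
    rw [hF] at h6
    have h7 := Nat.odd_iff.1 hc.2.1
    omega
  refine row_of_more (Q := oddForm m F) (nondeg_oddForm m F h2) ?_ h57 (by rw [hF]; exact hq) (by rw [hF]; exact hd)
    (AutOrth.Final.surjective_odd hc.1 h2) (coe_oddForm m F) e hnc ?_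
  · have := hc.1
    simp
    omega
  · intro _ h8
    exfalso
    simp at h8
    omega

/-- **`PΩ⁺_{2m}(q)`, `m ≥ 5`** -/
theorem oplus_more (h57 : p = 5 ∨ p = 7) (hnc : ∀ P : Sylow p S, ¬ IsCyclic (P : Subgroup S)) (hm : 5 ≤ m)
    (h : IsNamed (.oplus m q) S) (hq : ¬ p ∣ q) (hd : ¬ p ∣ q ^ 2 - 1) : KRow.{u, v} p S := by
  obtain ⟨F, i1, i2, hF, ⟨e⟩⟩ := h.real
  refine row_of_more (Q := plusForm m F) (nondeg_plusForm m F) ?_ h57 (by rw [hF]; exact hq) (by rw [hF]; exact hd)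
    (AutOrth.Final.surjective_plus hm) (coe_plusForm m F) e hnc ?_
  · simp
    omega
  · intro h5 h8
    left
    subst h5
    have hm8 : 8 ≤ m := by
      simp at h8
      omega
    refine dvd_of_eq (Nat.gcd_dvd_left 4 _) h.eq ?_
    exact ((prB_dvd hq (by omega)).mul_left _).mul_left _

/-- **`PΩ⁻_{2m}(q)`** -/
theorem ominus_more (h57 : p = 5 ∨ p = 7) (hnc : ∀ P : Sylow p S, ¬ IsCyclic (P : Subgroup S))
    (h : IsNamed (.ominus m q) S) (hq : ¬ p ∣ q) (hd : ¬ p ∣ q ^ 2 - 1) : KRow.{u, v} p S := by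
  obtain ⟨F, i1, i2, a, b, hF, hab, ⟨e⟩⟩ := h.real
  have hm := h.cond.1
  refine row_of_more (Q := minusForm (m - 1) F a b) (nondeg_minusForm _ F a b hab) ?_ h57 (by rw [hF]; exact hq)
    (by rw [hF]; exact hd) (AutOrth.Final.surjective_minus (by omega) hab) (coe_minusForm (m - 1) F a b) e hnc ?_
  · simp
    omega
  · intro h5 h8
    subst h5
    rcases Nat.lt_or_ge m 8 with hm8 | hm8
    · right
      have hm4 : m = 4 := by
        simp at h8
        omega
      subst hm4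
      intro z hz hz5
      by_contra hno
      push Not at hno
      have h1 := (minus_free hab (by norm_num : Nat.Prime 5) (by norm_num) (by rw [hF]; exact hq) hz hz5 (fun v hv => by
        by_contra h0
        exact hno v h0 hv)).2
      rw [hF] at h1
      have hq0 : (q : ZMod 5) ≠ 0 := by rwa [Ne, ZMod.natCast_eq_zero_iff]
      have hq2 : (q : ZMod 5) ^ 2 ≠ 1 := by
        intro h2
        apply hd
        rcases Nat.eq_zero_or_pos q with rfl | h0
        · exact absurd (dvd_zero 5) hq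
        rw [← ZMod.natCast_eq_zero_iff, Nat.cast_sub (Nat.one_le_pow _ _ h0), Nat.cast_pow, h2, Nat.cast_one, sub_self]
      have hqp : 0 < q := by
        rcases Nat.eq_zero_or_pos q with rfl | h0
        · exact absurd (dvd_zero 5) hq
        · exact h0
      rw [← ZMod.natCast_eq_zero_iff, Nat.cast_mul, Nat.cast_sub (Nat.one_le_pow _ _ hqp)] at h1
      push_cast at h1
      exact five_aux _ hq0 hq2 h1
    · left
      refine dvd_of_eq (Nat.gcd_dvd_left 4 _) h.eq ?_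
      exact ((prB_dvd hq (by omega)).mul_left _).mul_left _

end Cfsg.Agent.H292.K6
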